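import Cfsg.Agent.H27.Base2.ModelSetup

/-!
Algebra of the Pauli models: relations of the generators, and the classes modulo scalars as an
elementary abelian group indexed by `Fin (2 ^ (2 * k))`.
-/

set_option autoImplicit false
set_option linter.unusedSectionVars false

namespace H89.BaseSmall

open H27.Base2

variable (K : Type) [Field K] {tw : Bool} {k : ℕ}

/-- The diagonal coefficient of a generator. -/
def dia (j : ℕ) (s : Bool) : K := if j % 2 = 0 then 0 else if s then -1 else 1

/-- The flipping coefficient of a generator. -/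
def off (tw : Bool) (j : ℕ) (s : Bool) : K :=
  if j % 2 = 0 then (if tw && j / 2 == 0 then (if s then 1 else -1) else 1)
  else (if tw && j / 2 == 0 then 1 else 0)

/-- The square of a generator. -/
def genSq (tw : Bool) (j : ℕ) : K :=
  if tw && j / 2 == 0 then (if j % 2 = 0 then -1 else 2) else 1

variable {K}

/-- The index of the bit moved by a generator. -/
theorem div_lt (j : Fin (2 * k)) : (j : ℕ) / 2 < k := Nat.div_lt_of_lt_mul j.2

theorem gen_apply (j : Fin (2 * k)) (v : Fin (2 ^ k) → K) (b : Fin (2 ^ k)) :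
    gen K tw k j v b = dia K j (Nat.testBit b ((j : ℕ) / 2)) * v b +
      off K tw j (Nat.testBit b ((j : ℕ) / 2)) * v (flipBit ((j : ℕ) / 2) (div_lt j) b) := by
  show genFun K tw k j v b = _
  simp only [genFun, dia, off]
  split_ifs <;> ring

theorem testBit_flip (i i' : ℕ) (hi : i < k) (b : Fin (2 ^ k)) :
    Nat.testBit (flipBit i hi b) i' = xor (Nat.testBit b i') (decide (i = i')) := by
  simp [flipBit, Nat.testBit_xor, Nat.testBit_two_pow]

theorem flip_flip (i : ℕ) (hi : i < k) (b : Fin (2 ^ k)) : flipBit i hi (flipBit i hi b) = b := by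
  refine Fin.ext ?_
  simp [flipBit, Nat.xor_assoc]

theorem flip_comm (i i' : ℕ) (hi : i < k) (hi' : i' < k) (b : Fin (2 ^ k)) :
    flipBit i hi (flipBit i' hi' b) = flipBit i' hi' (flipBit i hi b) := by
  refine Fin.ext ?_
  simp [flipBit, Nat.xor_assoc, Nat.xor_comm (2 ^ i')]

theorem gen_mul_apply (i j : Fin (2 * k)) (h : (i : ℕ) / 2 = (j : ℕ) / 2) (v : Fin (2 ^ k) → K)
    (b : Fin (2 ^ k)) :
    (gen K tw k i * gen K tw k j) v b =
      let s := Nat.testBit b ((i : ℕ) / 2)
      (dia K i s * dia K j s + off K tw i s * off K tw j (!s)) * v b +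
        (dia K i s * off K tw j s + off K tw i s * dia K j (!s)) *
          v (flipBit ((i : ℕ) / 2) (div_lt i) b) := by
  have hf : flipBit ((j : ℕ) / 2) (div_lt j) = flipBit ((i : ℕ) / 2) (div_lt i) := by
    funext c; exact Fin.ext (by simp [flipBit, h])
  rw [Module.End.mul_apply, gen_apply, gen_apply, gen_apply, hf, testBit_flip, flip_flip, ← h]
  simp only [decide_true, Bool.xor_true]
  ring

theorem gen_mul_self (j : Fin (2 * k)) :
    gen K tw k j * gen K tw k j = genSq K tw j • (1 : Module.End K (Fin (2 ^ k) → K)) := by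
  refine LinearMap.ext fun v => funext fun b => ?_
  rw [gen_mul_apply j j rfl]
  simp only [LinearMap.smul_apply, Module.End.one_apply, Pi.smul_apply, smul_eq_mul, dia, off,
    genSq]
  cases Nat.testBit b ((j : ℕ) / 2) <;> simp only [Bool.not_false, Bool.not_true] <;>
    split_ifs <;> simp_all <;> (try ring_nf) <;> simp

theorem gen_anticomm {i j : Fin (2 * k)} (h : (i : ℕ) / 2 = (j : ℕ) / 2) (hne : i ≠ j) :
    gen K tw k i * gen K tw k j = -(gen K tw k j * gen K tw k i) := by
  refine LinearMap.ext fun v => funext fun b => ?_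
  rw [LinearMap.neg_apply, Pi.neg_apply, gen_mul_apply i j h, gen_mul_apply j i h.symm]
  have hf : flipBit ((j : ℕ) / 2) (div_lt j) b = flipBit ((i : ℕ) / 2) (div_lt i) b :=
    Fin.ext (by simp [flipBit, h])
  have hpar : ¬ ((i : ℕ) % 2 = 0 ↔ (j : ℕ) % 2 = 0) := fun e => hne (Fin.ext (by omega))
  simp only [hf, ← h, dia, off]
  cases Nat.testBit b ((i : ℕ) / 2) <;> simp only [Bool.not_false, Bool.not_true] <;>
    split_ifs <;> simp_all <;> ring

theorem gen_comm {i j : Fin (2 * k)} (h : (i : ℕ) / 2 ≠ (j : ℕ) / 2) :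
    gen K tw k i * gen K tw k j = gen K tw k j * gen K tw k i := by
  refine LinearMap.ext fun v => funext fun b => ?_
  simp only [Module.End.mul_apply, gen_apply, testBit_flip, flip_comm ((j : ℕ) / 2) ((i : ℕ) / 2),
    decide_eq_false h, decide_eq_false h.symm, Bool.xor_false]
  ring

variable (h2 : (2 : K) ≠ 0)

include h2 in
theorem genSq_ne_zero (j : ℕ) : genSq K tw j ≠ 0 := by
  unfold genSq; split_ifs <;> simp [h2]

/-- A generator as a unit. -/
def genU (tw : Bool) (j : Fin (2 * k)) : (Module.End K (Fin (2 ^ k) → K))ˣ where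
  val := gen K tw k j
  inv := (genSq K tw j)⁻¹ • gen K tw k j
  val_inv := by rw [mul_smul_comm, gen_mul_self, smul_smul, inv_mul_cancel₀ (genSq_ne_zero h2 j), one_smul]
  inv_val := by rw [smul_mul_assoc, gen_mul_self, smul_smul, inv_mul_cancel₀ (genSq_ne_zero h2 j), one_smul]

theorem coe_genU (j : Fin (2 * k)) :
    ((genU h2 tw j : (Module.End K (Fin (2 ^ k) → K))ˣ) : Module.End K (Fin (2 ^ k) → K)) =
      gen K tw k j := rfl

theorem coe_scalarU (c : Kˣ) :
    ((scalarU K (Fin (2 ^ k) → K) c : (Module.End K (Fin (2 ^ k) → K))ˣ) :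
      Module.End K (Fin (2 ^ k) → K)) = (c : K) • 1 :=
  LinearMap.ext fun v => scalarU_apply c v

/-- The scalars. -/
abbrev scal (K : Type) [Field K] (k : ℕ) : Subgroup (Module.End K (Fin (2 ^ k) → K))ˣ :=
  (scalarU K (Fin (2 ^ k) → K)).range

instance scal_normal : (scal K k).Normal :=
  ⟨fun _ ⟨c, hc⟩ g => ⟨c, by rw [← hc, ← scalarU_comm, mul_inv_cancel_right]⟩⟩

/-- The class of a unit modulo scalars. -/
abbrev cls (g : (Module.End K (Fin (2 ^ k) → K))ˣ) :
    (Module.End K (Fin (2 ^ k) → K))ˣ ⧸ scal K k :=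
  QuotientGroup.mk' (scal K k) g

theorem cls_eq_iff {g g' : (Module.End K (Fin (2 ^ k) → K))ˣ} :
    cls g = cls g' ↔ ∃ c : Kˣ, g' = scalarU K (Fin (2 ^ k) → K) c * g := by
  show (QuotientGroup.mk g : (Module.End K (Fin (2 ^ k) → K))ˣ ⧸ scal K k) = QuotientGroup.mk g' ↔ _
  rw [QuotientGroup.eq]
  constructor
  · rintro ⟨c, hc⟩
    exact ⟨c, by rw [scalarU_comm, hc, mul_inv_cancel_left]⟩
  · rintro ⟨c, rfl⟩
    exact ⟨c, by rw [scalarU_comm, inv_mul_cancel_left]⟩

/-- The sign `-1`. -/
def sg (b : Bool) : Kˣ := if b then -1 else 1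

theorem sg_xor (a b : Bool) : (sg (xor a b) : Kˣ) = sg a * sg b := by
  cases a <;> cases b <;> simp [sg]

/-- The other index of the same pair. -/
def partner (j : Fin (2 * k)) : Fin (2 * k) :=
  ⟨if (j : ℕ) % 2 = 0 then j + 1 else j - 1, by split_ifs <;> omega⟩

theorem partner_partner (j : Fin (2 * k)) : partner (partner j) = j := by
  refine Fin.ext ?_
  simp only [partner]
  split_ifs <;> omega

theorem genU_swap (i j : Fin (2 * k)) :
    genU h2 tw i * genU h2 tw j =
      scalarU K (Fin (2 ^ k) → K) (sg (decide (j = partner i))) * (genU h2 tw j * genU h2 tw i) := by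
  refine Units.ext ?_
  rw [Units.val_mul, Units.val_mul, Units.val_mul, coe_genU, coe_genU, coe_scalarU, smul_mul_assoc,
    one_mul]
  by_cases h : j = partner i
  · subst h
    rw [gen_anticomm (by simp only [partner]; split_ifs <;> omega)
      (fun e => by have := congrArg Fin.val e; simp only [partner] at this; split_ifs at this <;> omega)]
    simp [sg]
    exact (neg_one_smul K _).symm
  · rw [decide_eq_false h, sg, if_neg (by simp), Units.val_one, one_smul]
    by_cases hij : i = j
    · subst hij; rfl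
    · refine gen_comm fun e => h (Fin.ext ?_)
      have := Fin.val_ne_of_ne hij
      simp only [partner]
      split_ifs <;> omega

/-- The product of the generators selected by `m`, as a unit. -/
def wordU (tw : Bool) (k : ℕ) (m : ℕ) : (Module.End K (Fin (2 ^ k) → K))ˣ :=
  ((List.finRange (2 * k)).map fun (j : Fin (2 * k)) =>
    if Nat.testBit m (j : ℕ) then genU h2 tw j else 1).prod

theorem coe_wordU (n : Fin (2 ^ (2 * k))) :
    ((wordU h2 tw k n : (Module.End K (Fin (2 ^ k) → K))ˣ) : Module.End K (Fin (2 ^ k) → K)) =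
      word K tw k n := by
  rw [wordU, word, ← Units.coeHom_apply, map_list_prod, List.map_map]
  congr 1
  refine List.map_congr_left fun j _ => ?_
  simp only [Function.comp_apply, Units.coeHom_apply]
  split_ifs <;> rfl

theorem genU_list (j : Fin (2 * k)) (m : ℕ) (l : List (Fin (2 * k))) :
    genU h2 tw j * (l.map fun (i : Fin (2 * k)) => if Nat.testBit m (i : ℕ) then genU h2 tw i else 1).prod =
      scalarU K (Fin (2 ^ k) → K)
        (sg (l.foldr (fun (i : Fin (2 * k)) acc => xor (Nat.testBit m (i : ℕ) && decide (i = partner j)) acc) false)) *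
      ((l.map fun (i : Fin (2 * k)) => if Nat.testBit m (i : ℕ) then genU h2 tw i else 1).prod * genU h2 tw j) := by
  induction l with
  | nil => simp [sg]
  | cons i l ih =>
    rw [List.map_cons, List.prod_cons, List.foldr_cons, sg_xor, map_mul, ← mul_assoc]
    by_cases hb : Nat.testBit m (i : ℕ)
    · rw [if_pos hb, hb, Bool.true_and, genU_swap, mul_assoc, mul_assoc, mul_assoc, ih,
        ← mul_assoc (genU h2 tw i), ← scalarU_comm, mul_assoc, mul_assoc]
    · rw [if_neg hb, mul_one, Bool.eq_false_iff.2 hb, Bool.false_and, one_mul, ih]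
      simp [sg]

theorem foldr_single (m : ℕ) (a : Fin (2 * k)) (l : List (Fin (2 * k))) (hl : l.Nodup) :
    l.foldr (fun (i : Fin (2 * k)) acc => xor (Nat.testBit m (i : ℕ) && decide (i = a)) acc) false =
      (decide (a ∈ l) && Nat.testBit m (a : ℕ)) := by
  induction l with
  | nil => simp
  | cons i l ih =>
    rw [List.foldr_cons, ih (List.nodup_cons.1 hl).2]
    have hi := (List.nodup_cons.1 hl).1
    by_cases h : i = a
    · subst h; simp [hi]
    · simp [h, Ne.symm h]

theorem genU_word (j : Fin (2 * k)) (m : ℕ) :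
    genU h2 tw j * wordU h2 tw k m =
      scalarU K (Fin (2 ^ k) → K) (sg (Nat.testBit m (partner j : Fin (2 * k)))) *
        (wordU h2 tw k m * genU h2 tw j) := by
  rw [wordU, genU_list, foldr_single _ _ _ (List.nodup_finRange _)]
  simp

theorem prod_xor {G : Type*} [Group G] {ι : Type*} (x : ι → G) (bit : ℕ → ι → Bool)
    (hbit : ∀ a b i, bit (a ^^^ b) i = xor (bit a i) (bit b i))
    (hc : ∀ i j, x i * x j = x j * x i) (hs : ∀ i, x i * x i = 1) (a b : ℕ) (l : List ι) :
    (l.map fun i => if bit (a ^^^ b) i then x i else 1).prod =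
      (l.map fun i => if bit a i then x i else 1).prod *
        (l.map fun i => if bit b i then x i else 1).prod := by
  induction l with
  | nil => simp
  | cons i l ih =>
    simp only [List.map_cons, List.prod_cons]
    rw [ih, hbit]
    have hcomm : ∀ c : ℕ, Commute (x i) (l.map fun j => if bit c j then x j else 1).prod :=
      fun c => Commute.list_prod_right _ _ fun y hy => by
        obtain ⟨j, -, rfl⟩ := List.mem_map.1 hy
        by_cases hj : bit c j
        · simp only [hj, if_true]; exact hc i j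
        · simp [hj]
    cases bit a i <;> cases bit b i <;>
      simp only [Bool.xor_false, Bool.xor_true, Bool.false_xor, Bool.true_xor, Bool.not_false,
        Bool.not_true, Bool.false_eq_true, if_false, if_true, one_mul]
    · simp only [← mul_assoc, ← (hcomm a).eq]
    · rw [mul_assoc]
    · rw [← mul_assoc, mul_assoc (x i), ← (hcomm a).eq, ← mul_assoc, hs, one_mul]

theorem cls_scalar (c : Kˣ) :
    QuotientGroup.mk' (scal K k) (scalarU K (Fin (2 ^ k) → K) c) = 1 :=
  (QuotientGroup.eq_one_iff _).2 ⟨c, rfl⟩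

theorem cls_wordU_xor (a b : ℕ) :
    cls (wordU h2 tw k (a ^^^ b)) = cls (wordU h2 tw k a) * cls (wordU h2 tw k b) := by
  have h : ∀ m : ℕ, cls (wordU h2 tw k m) =
      ((List.finRange (2 * k)).map fun (j : Fin (2 * k)) =>
        if Nat.testBit m (j : ℕ) then cls (genU h2 tw j) else 1).prod := fun m => by
    rw [wordU, cls, map_list_prod, List.map_map]
    congr 1
    refine List.map_congr_left fun j _ => ?_
    simp only [Function.comp_apply]
    split_ifs <;> simp [cls]
  rw [h, h, h]
  refine prod_xor (fun (j : Fin (2 * k)) => cls (genU h2 tw j)) (fun m j => Nat.testBit m (j : ℕ))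
    (fun a b i => Nat.testBit_xor _ _ _) (fun i j => ?_) (fun i => ?_) a b _
  · rw [← map_mul, ← map_mul, genU_swap, map_mul, cls_scalar, one_mul]
  · rw [← map_mul]
    refine (QuotientGroup.eq_one_iff _).2 ⟨Units.mk0 _ (genSq_ne_zero (tw := tw) h2 i), ?_⟩
    refine Units.ext ?_
    rw [coe_scalarU, Units.val_mk0, Units.val_mul, coe_genU, gen_mul_self]

theorem cls_wordU_two_pow (j : Fin (2 * k)) :
    cls (wordU h2 tw k (2 ^ (j : ℕ))) = cls (genU h2 tw j) := by
  have h : ∀ l : List (Fin (2 * k)), l.Nodup →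
      (l.map fun (i : Fin (2 * k)) => if Nat.testBit (2 ^ (j : ℕ)) (i : ℕ) then genU h2 tw i else 1).prod =
        if j ∈ l then genU h2 tw j else 1 := by
    intro l hl
    induction l with
    | nil => simp
    | cons i l ih =>
      rw [List.map_cons, List.prod_cons, ih (List.nodup_cons.1 hl).2]
      by_cases hij : i = j
      · subst hij; simp [Nat.testBit_two_pow, (List.nodup_cons.1 hl).1]
      · simp [Nat.testBit_two_pow, Fin.val_ne_of_ne (Ne.symm hij), Ne.symm hij]
  rw [wordU, h _ (List.nodup_finRange _), if_pos (List.mem_finRange j)]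

include h2 in
/-- Only the empty word is scalar. -/
theorem eq_zero_of_cls {m : ℕ} (hm : m < 2 ^ (2 * k)) (h : cls (wordU h2 tw k m) = 1) : m = 0 := by
  obtain ⟨c, hc⟩ := (QuotientGroup.eq_one_iff _).1 h
  refine Nat.eq_of_testBit_eq fun i => ?_
  rw [Nat.zero_testBit]
  rcases Nat.lt_or_ge i (2 * k) with hi | hi
  · by_contra hb
    have e := genU_word (tw := tw) h2 (partner ⟨i, hi⟩) m
    rw [partner_partner, show Nat.testBit m ((⟨i, hi⟩ : Fin (2 * k)) : ℕ) = true by simpa using hb, ← hc, ← scalarU_comm c] at e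
    have e' : scalarU K (Fin (2 ^ k) → K) (sg true) = 1 := right_eq_mul.1 e
    have e2 := congrArg (fun g : (Module.End K (Fin (2 ^ k) → K))ˣ =>
      (g : Module.End K (Fin (2 ^ k) → K)) (fun _ => 1) 0) e'
    simp [sg] at e2
    exact h2 (by linear_combination -e2)
  · exact Nat.testBit_lt_two_pow (hm.trans_le (Nat.pow_le_pow_right (by norm_num) hi))

theorem wordU_mem_pauli (m : ℕ) : wordU h2 tw k m ∈ pauli K tw k := by
  refine Subgroup.list_prod_mem _ fun y hy => ?_
  obtain ⟨j, -, rfl⟩ := List.mem_map.1 hy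
  split_ifs
  · exact Subgroup.subset_closure (Or.inr ⟨j, rfl⟩)
  · exact one_mem _

theorem scalar_mem_pauli (c : Kˣ) : scalarU K (Fin (2 ^ k) → K) c ∈ pauli K tw k :=
  Subgroup.subset_closure (Or.inl ⟨c, rfl⟩)

/-- The classes of the Pauli group. -/
abbrev Cls (K : Type) [Field K] (tw : Bool) (k : ℕ) :
    Subgroup ((Module.End K (Fin (2 ^ k) → K))ˣ ⧸ scal K k) :=
  (pauli K tw k).map (QuotientGroup.mk' (scal K k))

/-- The class with index `n`. -/
def idx (tw : Bool) (k : ℕ) (n : Fin (2 ^ (2 * k))) : ↥(Cls K tw k) :=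
  ⟨cls (wordU h2 tw k n), _, wordU_mem_pauli h2 n, rfl⟩

theorem idx_injective : Function.Injective (idx h2 tw k) := by
  intro a b h
  have e : cls (wordU h2 tw k ((a : ℕ) ^^^ b)) = 1 := by
    have h' : cls (wordU h2 tw k a) = cls (wordU h2 tw k b) := congrArg Subtype.val h
    rw [cls_wordU_xor, h']
    show cls (wordU h2 tw k b) * cls (wordU h2 tw k b) = 1
    rw [← cls_wordU_xor, Nat.xor_self]
    exact (QuotientGroup.eq_one_iff _).2 (by
      simp [wordU, scal, Nat.zero_testBit])
  exact Fin.ext (Nat.xor_eq_zero_iff.1 (eq_zero_of_cls h2 (Nat.xor_lt_two_pow a.2 b.2) e))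

theorem idx_surjective : Function.Surjective (idx h2 tw k) := by
  let W : Subgroup ((Module.End K (Fin (2 ^ k) → K))ˣ ⧸ scal K k) :=
    { carrier := {q | ∃ m, m < 2 ^ (2 * k) ∧ cls (wordU h2 tw k m) = q}
      one_mem' := ⟨0, Nat.two_pow_pos _, by simp [wordU, Nat.zero_testBit, cls]⟩
      mul_mem' := by
        rintro _ _ ⟨a, ha, rfl⟩ ⟨b, hb, rfl⟩
        exact ⟨a ^^^ b, Nat.xor_lt_two_pow ha hb, cls_wordU_xor h2 a b⟩
      inv_mem' := by
        rintro _ ⟨a, ha, rfl⟩
        refine ⟨a, ha, ?_⟩
        rw [eq_inv_iff_mul_eq_one, ← cls_wordU_xor, Nat.xor_self]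
        simp [wordU, Nat.zero_testBit, cls] }
  have hle : pauli K tw k ≤ W.comap (QuotientGroup.mk' (scal K k)) := by
    rw [pauli, Subgroup.closure_le]
    rintro g (⟨c, rfl⟩ | ⟨j, hj⟩)
    · exact ⟨0, Nat.two_pow_pos _, by
        show _ = QuotientGroup.mk' (scal K k) _
        rw [cls_scalar]; simp [wordU, Nat.zero_testBit, cls]⟩
    · refine ⟨2 ^ (j : ℕ), Nat.pow_lt_pow_right (by norm_num) j.2, ?_⟩
      rw [cls_wordU_two_pow, show genU h2 tw j = g from Units.ext hj.symm]
  rintro ⟨_, g, hg, rfl⟩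
  obtain ⟨m, hm, e⟩ := hle hg
  exact ⟨⟨m, hm⟩, Subtype.ext e⟩

end H89.BaseSmall
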